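import Groth.Agent.EtaleCrit.Basic
import Groth.Agent.DimFormula.Field
import Mathlib

/-!
# Etaleness at a point from the local dimension and generators of the differentials
-/

set_option autoImplicit false
set_option linter.style.haveILetI false
set_option backward.isDefEq.respectTransparency false

universe u

open TensorProduct IsLocalRing

noncomputable section

namespace Groth.Agent.EtaleCrit

variable {k A : Type u} [Field k] [CommRing A] [Algebra k A]

/-- A closed point of an affine algebra has height at least the dimension of a component through it. -/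
theorem ringKrullDim_quotient_le_height [Algebra.FiniteType k A] (Q m : Ideal A) [Q.IsPrime]
    [m.IsMaximal] (hQm : Q ≤ m) : ringKrullDim (A ⧸ Q) ≤ (m.height : WithBot ℕ∞) := by
  have hker : RingHom.ker (Ideal.Quotient.mk Q) ≤ m := by rwa [Ideal.mk_ker]
  have hcm : (m.map (Ideal.Quotient.mk Q)).comap (Ideal.Quotient.mk Q) = m :=
    (Ideal.comap_map_of_surjective' _ Ideal.Quotient.mk_surjective m).trans (sup_eq_left.mpr hker)
  haveI hm' : (m.map (Ideal.Quotient.mk Q)).IsMaximal :=
    (Ideal.map_eq_top_or_isMaximal_of_surjective _ Ideal.Quotient.mk_surjective ‹m.IsMaximal›).resolve_left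
      fun h => ‹m.IsMaximal›.ne_top (by rw [← hcm, h, Ideal.comap_top])
  obtain ⟨h, t, s, hh, ht, hs, hsum⟩ := DimFormula.exists_height_add_trdeg k (m.map (Ideal.Quotient.mk Q))
  obtain ⟨s', hs', hdim⟩ := DimFormula.exists_trdeg_eq_ringKrullDim k (A ⧸ Q)
  have hss : s' = s := by exact_mod_cast hs'.symm.trans hs
  have ht0 : Algebra.trdeg k ((A ⧸ Q) ⧸ m.map (Ideal.Quotient.mk Q)) = 0 := by
    letI := Ideal.Quotient.field (m.map (Ideal.Quotient.mk Q))
    haveI : Module.Finite k ((A ⧸ Q) ⧸ m.map (Ideal.Quotient.mk Q)) :=
      finite_of_finite_type_of_isJacobsonRing _ _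
    haveI : Algebra.IsIntegral k ((A ⧸ Q) ⧸ m.map (Ideal.Quotient.mk Q)) := Algebra.IsIntegral.of_finite _ _
    haveI : Algebra.IsAlgebraic k ((A ⧸ Q) ⧸ m.map (Ideal.Quotient.mk Q)) := Algebra.IsIntegral.isAlgebraic
    exact trdeg_eq_zero
  have ht' : t = 0 := by exact_mod_cast ht.symm.trans ht0
  have hle : (h : ℕ∞) ≤ m.height := by
    rw [← hh, (⟨m, inferInstance⟩ : PrimeSpectrum A).height_eq_orderHeight,
      (⟨m.map (Ideal.Quotient.mk Q), inferInstance⟩ : PrimeSpectrum (A ⧸ Q)).height_eq_orderHeight]
    refine (Order.height_le_height_apply_of_strictMono (PrimeSpectrum.comap (Ideal.Quotient.mk Q))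
      ?_ ⟨m.map (Ideal.Quotient.mk Q), inferInstance⟩).trans (le_of_eq ?_)
    · intro x y hxy
      exact lt_of_le_of_ne (Ideal.comap_mono hxy.le) fun e =>
        hxy.ne (PrimeSpectrum.comap_injective_of_surjective _ Ideal.Quotient.mk_surjective e)
    · congr 1
      exact PrimeSpectrum.ext hcm
  have : s' = h := by omega
  subst this
  rw [hdim]
  exact WithBot.coe_le_coe.mpr hle

/-- Spanning after localization at a prime, in terms of the module itself. -/
theorem span_atPrime_iff {n : ℕ} (a : Fin n → A) (p : Ideal A) [p.IsPrime] :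
    Submodule.span (Localization.AtPrime p) (Set.range fun i =>
        KaehlerDifferential.D k (Localization.AtPrime p) (algebraMap A _ (a i))) = ⊤ ↔
      ∀ w : Ω[A⁄k], ∃ s : p.primeCompl,
        (s : A) • w ∈ Submodule.span A (Set.range fun i => KaehlerDifferential.D k A (a i)) := by
  set L := Localization.AtPrime p
  let φ := KaehlerDifferential.map k k A L
  haveI : IsLocalizedModule p.primeCompl φ := KaehlerDifferential.isLocalizedModule_map k A L p.primeCompl
  let S := Submodule.span A (Set.range fun i => KaehlerDifferential.D k A (a i))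
  let S' := Submodule.span L (Set.range fun i => KaehlerDifferential.D k L (algebraMap A L (a i)))
  have hmap : ∀ v ∈ S, φ v ∈ S' := by
    intro v hv
    induction hv using Submodule.span_induction with
    | mem v hv =>
      obtain ⟨i, rfl⟩ := hv
      rw [KaehlerDifferential.map_D]
      exact Submodule.subset_span ⟨i, rfl⟩
    | zero => simp
    | add a b _ _ ha hb => rw [map_add]; exact S'.add_mem ha hb
    | smul r a _ ha => rw [map_smul, ← algebraMap_smul L r]; exact S'.smul_mem _ ha
  constructor
  · intro h w
    have hw : φ w ∈ S' := by rw [show S' = ⊤ from h]; trivial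
    suffices key : ∀ x ∈ S', ∃ (s : p.primeCompl) (v : Ω[A⁄k]), v ∈ S ∧ (s : A) • x = φ v by
      obtain ⟨s, v, hv, hx⟩ := key _ hw
      rw [← map_smul] at hx
      obtain ⟨c, hc⟩ := (IsLocalizedModule.eq_iff_exists p.primeCompl φ).mp hx
      refine ⟨c * s, ?_⟩
      rw [Submonoid.coe_mul, mul_smul, show (c : A) • ((s : A) • w) = (c : A) • v from hc]
      exact S.smul_mem _ hv
    intro x hx
    induction hx using Submodule.span_induction with
    | mem x hx =>
      obtain ⟨i, rfl⟩ := hx
      exact ⟨1, _, Submodule.subset_span ⟨i, rfl⟩, by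
        rw [OneMemClass.coe_one, one_smul, KaehlerDifferential.map_D]⟩
    | zero => exact ⟨1, 0, S.zero_mem, by simp⟩
    | add a b _ _ ha hb =>
      obtain ⟨s, v, hv, hva⟩ := ha
      obtain ⟨t, v', hv', hvb⟩ := hb
      refine ⟨s * t, (t : A) • v + (s : A) • v', S.add_mem (S.smul_mem _ hv) (S.smul_mem _ hv'), ?_⟩
      rw [map_add, map_smul, map_smul, ← hva, ← hvb, smul_add, ← mul_smul, ← mul_smul,
        Submonoid.coe_mul, mul_comm (t : A)]
    | smul r a _ ha =>
      obtain ⟨s, v, hv, hva⟩ := ha
      obtain ⟨b, t, rfl⟩ := IsLocalization.exists_mk'_eq p.primeCompl r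
      refine ⟨t * s, b • v, S.smul_mem _ hv, ?_⟩
      rw [map_smul, ← hva, Submonoid.coe_mul, ← algebraMap_smul L ((t : A) * s),
        ← algebraMap_smul L b, ← algebraMap_smul L (s : A), ← mul_smul, ← mul_smul, map_mul,
        mul_right_comm, IsLocalization.mk'_spec' L b t, mul_comm]
  · intro h
    rw [eq_top_iff]
    rintro x -
    obtain ⟨⟨w, s⟩, rfl⟩ := IsLocalizedModule.mk'_surjective p.primeCompl φ x
    obtain ⟨t, ht⟩ := h w
    have h1 := hmap _ ht
    rw [map_smul, ← algebraMap_smul L (t : A)] at h1
    have h2 : φ w ∈ S' := (Submodule.smul_mem_iff_of_isUnit S' (IsLocalization.map_units L t)).mp h1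
    refine (Submodule.smul_mem_iff_of_isUnit S' (IsLocalization.map_units L s)).mp ?_
    rw [algebraMap_smul]
    have h3 := IsLocalizedModule.mk'_cancel' φ w s
    rw [Submonoid.smul_def] at h3
    exact (congrArg (· ∈ S') h3).mpr h2

/-- Formal etaleness over a polynomial ring from smoothness and a basis of differentials. -/
theorem formallyEtale_of_basis {n : ℕ} [Algebra (MvPolynomial (Fin n) k) A]
    [IsScalarTower k (MvPolynomial (Fin n) k) A] [Algebra.FormallySmooth k A]
    (hspan : Submodule.span A (Set.range fun i : Fin n => KaehlerDifferential.D k A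
      (algebraMap (MvPolynomial (Fin n) k) A (MvPolynomial.X i))) = ⊤)
    (hind : ∀ f : Fin n → A, ∑ i, f i • KaehlerDifferential.D k A
      (algebraMap (MvPolynomial (Fin n) k) A (MvPolynomial.X i)) = 0 → ∀ i, f i = 0) :
    Algebra.FormallyEtale (MvPolynomial (Fin n) k) A := by
  classical
  let b := (KaehlerDifferential.mvPolynomialBasis k (Fin n)).baseChange A
  have hb : ∀ i, KaehlerDifferential.mapBaseChange k (MvPolynomial (Fin n) k) A (b i) =
      KaehlerDifferential.D k A (algebraMap (MvPolynomial (Fin n) k) A (MvPolynomial.X i)) := fun i => by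
    rw [Module.Basis.baseChange_apply, KaehlerDifferential.mapBaseChange_tmul, one_smul,
      KaehlerDifferential.mvPolynomialBasis_apply, KaehlerDifferential.map_D]
  have hinj : Function.Injective (KaehlerDifferential.mapBaseChange k (MvPolynomial (Fin n) k) A) := by
    refine (injective_iff_map_eq_zero _).2 fun t ht => ?_
    rw [← b.sum_repr t, map_sum] at ht
    simp only [map_smul, hb] at ht
    refine b.repr.injective ?_
    ext i
    rw [map_zero]
    exact hind _ ht i
  refine ⟨?_, ?_⟩
  · refine subsingleton_of_forall_eq 0 fun w => ?_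
    obtain ⟨v, rfl⟩ := KaehlerDifferential.map_surjective k (MvPolynomial (Fin n) k) A w
    refine ((KaehlerDifferential.exact_mapBaseChange_map k (MvPolynomial (Fin n) k) A) v).2 ?_
    obtain ⟨f, rfl⟩ := (Submodule.mem_span_range_iff_exists_fun A).1
      (hspan ▸ Submodule.mem_top : v ∈ Submodule.span A (Set.range fun i : Fin n =>
        KaehlerDifferential.D k A (algebraMap (MvPolynomial (Fin n) k) A (MvPolynomial.X i))))
    exact ⟨∑ i, f i • b i, by simp [map_sum, hb]⟩
  · refine subsingleton_of_forall_eq 0 fun z => ?_
    have hz : Algebra.H1Cotangent.δ k (MvPolynomial (Fin n) k) A z = 0 := hinj (by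
      rw [map_zero]
      exact (Algebra.H1Cotangent.exact_δ_mapBaseChange k _ A).apply_apply_eq_zero z)
    obtain ⟨y, rfl⟩ := (Algebra.H1Cotangent.exact_map_δ k _ A z).1 hz
    rw [Subsingleton.elim y 0, map_zero]

/-- Smoothness and independence at a closed point of large enough height. -/
theorem smooth_and_independent_at [Algebra.FiniteType k A] {n : ℕ} (a : Fin n → A) (m : Ideal A)
    [m.IsMaximal] (hdim : (n : WithBot ℕ∞) ≤ (m.height : WithBot ℕ∞))
    (ha : Submodule.span (Localization.AtPrime m) (Set.range fun i =>
      KaehlerDifferential.D k (Localization.AtPrime m) (algebraMap A _ (a i))) = ⊤) :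
    Algebra.IsSmoothAt k m ∧ ∀ f : Fin n → Localization.AtPrime m,
      ∑ i, f i • KaehlerDifferential.D k (Localization.AtPrime m) (algebraMap A _ (a i)) = 0 →
        ∀ i, f i = 0 := by
  classical
  let K := AlgebraicClosure k
  let B := K ⊗[k] A
  letI : Algebra A B := Algebra.TensorProduct.rightAlgebra
  haveI : IsScalarTower k A B := IsScalarTower.of_algebraMap_eq fun r => by
    show algebraMap k B r = (1 : K) ⊗ₜ[k] algebraMap k A r
    exact (Algebra.TensorProduct.includeRight.commutes r).symm
  let e : A ⊗[k] K ≃ₐ[A] B :=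
    AlgEquiv.ofRingEquiv (f := (Algebra.TensorProduct.comm k A K).toRingEquiv) fun x => by
      show Algebra.TensorProduct.comm k A K (x ⊗ₜ[k] (1 : K)) = _
      rw [Algebra.TensorProduct.comm_tmul]
      rfl
  haveI : Module.FaithfullyFlat A B := Module.FaithfullyFlat.of_linearEquiv _ _ e.symm.toLinearEquiv
  haveI : Algebra.IsIntegral A B := ⟨fun b => by
    obtain ⟨t, rfl⟩ := e.surjective b
    exact (Algebra.IsIntegral.isIntegral t).map e.toAlgHom⟩
  haveI : IsNoetherianRing B := Algebra.FiniteType.isNoetherianRing K B
  haveI : IsNoetherianRing A := Algebra.FiniteType.isNoetherianRing k A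
  obtain ⟨Q, hQ⟩ := PrimeSpectrum.comap_surjective_of_faithfullyFlat (A := A) (B := B) ⟨m, inferInstance⟩
  have hQc : Q.asIdeal.comap (algebraMap A B) = m := congrArg PrimeSpectrum.asIdeal hQ
  haveI : Q.asIdeal.IsMaximal :=
    Ideal.isMaximal_of_isIntegral_of_isMaximal_comap Q.asIdeal (by rw [hQc]; infer_instance)
  haveI : Q.asIdeal.LiesOver m := ⟨hQc.symm⟩
  let L := Localization.AtPrime m
  let P := Localization.AtPrime Q.asIdeal
  letI : Algebra L P := Localization.AtPrime.algebraOfLiesOver m Q.asIdeal
  haveI : IsScalarTower A L P := IsScalarTower.of_algebraMap_eq fun x => by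
    show _ = Localization.localRingHom m Q.asIdeal (algebraMap A B) _ (algebraMap A L x)
    rw [Localization.localRingHom_to_map, ← IsScalarTower.algebraMap_apply]
  haveI : IsScalarTower k L P := IsScalarTower.of_algebraMap_eq fun r => by
    rw [IsScalarTower.algebraMap_apply k A L, ← IsScalarTower.algebraMap_apply A L P,
      ← IsScalarTower.algebraMap_apply k A P]
  haveI : IsLocalHom (algebraMap L P) := Localization.isLocalHom_localRingHom _ _ _ (Q.asIdeal.over_def m)
  haveI : Module.Flat L P := by
    haveI : Module.Flat A P := Module.Flat.trans A B P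
    exact (Module.flat_iff_of_isLocalization L m.primeCompl _).2 this
  haveI : Module.FaithfullyFlat L P := Module.FaithfullyFlat.of_flat_of_isLocalHom
  let a' : Fin n → P := fun i => algebraMap L P (algebraMap A L (a i))
  haveI : Algebra.FormallyEtale B P := .of_isLocalization Q.asIdeal.primeCompl
  let S := Submodule.span P (Set.range fun i => KaehlerDifferential.D K P (a' i))
  let g : Ω[L⁄k] →ₗ[L] Ω[P⁄K] := KaehlerDifferential.map k K L P
  have hg : ∀ w : Ω[L⁄k], g w ∈ S := by
    intro w
    have hw : w ∈ Submodule.span L (Set.range fun i =>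
        KaehlerDifferential.D k L (algebraMap A L (a i))) := ha ▸ Submodule.mem_top
    induction hw using Submodule.span_induction with
    | mem w hw =>
      obtain ⟨i, rfl⟩ := hw
      rw [KaehlerDifferential.map_D]
      exact Submodule.subset_span ⟨i, rfl⟩
    | zero => simp
    | add a b _ _ ha hb => rw [map_add]; exact S.add_mem ha hb
    | smul r a _ ha => rw [map_smul, ← algebraMap_smul P r]; exact S.smul_mem _ ha
  have hspan : S = ⊤ := by
    rw [eq_top_iff]
    rintro w -
    let e' := KaehlerDifferential.tensorKaehlerEquivOfFormallyEtale K B P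
    obtain ⟨t, rfl⟩ := e'.surjective w
    induction t using TensorProduct.induction_on with
    | zero => simp
    | add x y hx hy => rw [map_add]; exact S.add_mem hx hy
    | tmul c v =>
      rw [KaehlerDifferential.tensorKaehlerEquivOfFormallyEtale_apply, KaehlerDifferential.mapBaseChange_tmul]
      refine S.smul_mem _ ?_
      have hv : v ∈ Submodule.span B (Set.range (KaehlerDifferential.D K B)) :=
        (KaehlerDifferential.span_range_derivation K B).symm ▸ Submodule.mem_top
      induction hv using Submodule.span_induction with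
      | mem v hv =>
        obtain ⟨b, rfl⟩ := hv
        rw [KaehlerDifferential.map_D]
        induction b using TensorProduct.induction_on with
        | zero => simp
        | add x y hx hy => rw [map_add, map_add]; exact S.add_mem hx hy
        | tmul c x =>
          have h1 : algebraMap B P (c ⊗ₜ[k] x) = c • algebraMap L P (algebraMap A L x) := by
            rw [← IsScalarTower.algebraMap_apply A L P, IsScalarTower.algebraMap_apply A B P,
              Algebra.smul_def, IsScalarTower.algebraMap_apply K B P, ← map_mul]
            congr 1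
            show c ⊗ₜ[k] x = (c ⊗ₜ[k] (1 : A)) * ((1 : K) ⊗ₜ[k] x)
            rw [Algebra.TensorProduct.tmul_mul_tmul, mul_one, one_mul]
          rw [h1, Derivation.map_smul, ← algebraMap_smul P c, ← KaehlerDifferential.map_D k K L P]
          exact S.smul_mem _ (hg _)
      | zero => simp
      | add a b _ _ ha hb => rw [map_add]; exact S.add_mem ha hb
      | smul r a _ ha => rw [map_smul, ← algebraMap_smul P r]; exact S.smul_mem _ ha
  have hle := spanFinrank_le (HopfSmDim.hasResidue (K := K) Q.asIdeal) a' hspan
  have hd : (n : WithBot ℕ∞) ≤ ringKrullDim P := by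
    rw [IsLocalization.AtPrime.ringKrullDim_eq_height Q.asIdeal]
    refine hdim.trans (WithBot.coe_le_coe.2 ?_)
    rw [Ideal.height_eq_height_add_of_liesOver_of_hasGoingDown m Q.asIdeal]
    exact le_self_add
  have h1 := ringKrullDim_le_spanFinrank_maximalIdeal P
  have hn : (maximalIdeal P).spanFinrank = n := le_antisymm hle (by exact_mod_cast hd.trans h1)
  have hreg : IsRegularLocalRing P := by
    rw [isRegularLocalRing_iff, hn]
    exact le_antisymm hd (by simpa [hn] using h1)
  have hsm : Algebra.FormallySmooth K P := (CotT.regular_iff_smoothAt (k := K) Q.asIdeal).1 hreg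
  refine ⟨?_, fun f hf i => ?_⟩
  · haveI : Algebra.FinitePresentation k A := Algebra.FinitePresentation.of_finiteType.1 ‹_›
    have := SmDesc.isSmoothAt_of_tensor (R := k) (S := A) (T := K) Q hsm
    rw [hQ] at this
    exact this
  · have : Module.Free P (Ω[P⁄K]) := Module.free_of_flat_of_isLocalRing
    have hrk : Module.finrank P (Ω[P⁄K]) = n := by
      rw [← HopfSmDim.finrank_cotangentSpace (HopfSmDim.hasResidue (K := K) Q.asIdeal),
        ← spanFinrank_maximalIdeal_eq_finrank_cotangentSpace, hn]
    have hind := linearIndependent_of_top_le_span_of_card_eq_finrank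
      (b := fun i => KaehlerDifferential.D K P (a' i)) hspan.ge
      (by rw [Fintype.card_fin]; exact hrk.symm)
    have h0 : ∑ j, algebraMap L P (f j) • KaehlerDifferential.D K P (a' j) = 0 := by
      have h := congrArg (KaehlerDifferential.map k K L P) hf
      simp only [map_sum, map_smul, map_zero, KaehlerDifferential.map_D] at h
      refine Eq.trans (Finset.sum_congr rfl fun j _ => ?_) h
      exact (algebraMap_smul P (f j) _).trans (congrArg (f j • ·) (KaehlerDifferential.map_D k K L P _).symm)
    exact FaithfulSMul.algebraMap_injective L P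
      ((Fintype.linearIndependent_iff.1 hind _ h0 i).trans (map_zero _).symm)

end Groth.Agent.EtaleCrit
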