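import Groth.Agent.HopfSmDim.Local
import Groth.Agent.SmDesc.Ring
import Groth.Agent.CotT.Smooth
import Mathlib

/-!
# Smoothness from a dimension bound and generators of the differentials
-/

set_option autoImplicit false
set_option linter.style.haveILetI false
set_option backward.isDefEq.respectTransparency false

universe u

open TensorProduct IsLocalRing

noncomputable section

namespace Groth.Agent.EtaleCrit

/-- Over a local ring with residue field `k`, differentials spanned by `n` exact forms bound the
embedding dimension by `n`. -/
theorem spanFinrank_le {k P : Type u} [Field k] [CommRing P] [IsLocalRing P] [Algebra k P]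
    [IsNoetherianRing P] (h : CotT.HasResidue k P) {n : ℕ} (a : Fin n → P)
    (ha : Submodule.span P (Set.range fun i => KaehlerDifferential.D k P (a i)) = ⊤) :
    (maximalIdeal P).spanFinrank ≤ n := by
  classical
  choose c hc using fun i => CotT.exists_const h (a i)
  let e : Fin n → P := fun i => a i - algebraMap k P (c i)
  have hDe : ∀ i, KaehlerDifferential.D k P (e i) = KaehlerDifferential.D k P (a i) := fun i => by
    simp [e]
  let N : Ideal P := Ideal.span (Set.range e)
  have hN : N ≤ maximalIdeal P := Ideal.span_le.2 (by rintro _ ⟨i, rfl⟩; exact hc i)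
  have key : maximalIdeal P ≤ N ⊔ maximalIdeal P • maximalIdeal P := by
    intro x hx
    obtain ⟨f, hf⟩ := (Submodule.mem_span_range_iff_exists_fun P).1
      (ha ▸ Submodule.mem_top : KaehlerDifferential.D k P x ∈
        Submodule.span P (Set.range fun i => KaehlerDifferential.D k P (a i)))
    have hy : x - ∑ i, f i * e i ∈ maximalIdeal P :=
      sub_mem hx (Ideal.sum_mem _ fun i _ => Ideal.mul_mem_left _ _ (hc i))
    have hD : KaehlerDifferential.D k P (x - ∑ i, f i * e i) ∈
        maximalIdeal P • (⊤ : Submodule P (Ω[P⁄k])) := by
      rw [map_sub, map_sum]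
      simp only [Derivation.leibniz, hDe, Finset.sum_add_distrib, hf]
      rw [sub_add_eq_sub_sub, sub_self, zero_sub]
      exact Submodule.neg_mem _ (Submodule.sum_mem _ fun i _ =>
        Submodule.smul_mem_smul (hc i) Submodule.mem_top)
    refine Submodule.mem_sup.2 ⟨∑ i, f i * e i,
      Ideal.sum_mem _ fun i _ => Ideal.mul_mem_left _ _ (Ideal.subset_span ⟨i, rfl⟩),
      x - ∑ i, f i * e i, ?_, by ring⟩
    rw [Ideal.smul_eq_mul, ← pow_two]
    exact CotT.mem_sq_of_D h hy hD
  have hle : maximalIdeal P ≤ N := Submodule.le_of_le_smul_of_le_jacobson_bot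
    (IsNoetherian.noetherian _) (IsLocalRing.maximalIdeal_le_jacobson _) key
  rw [← le_antisymm hN hle]
  refine (Submodule.spanFinrank_span_le_ncard_of_finite (Set.finite_range e)).trans ?_
  rw [← Set.image_univ]
  exact (Set.ncard_image_le Set.finite_univ).trans (by simp [Set.ncard_univ])

/-- Spanning sets of differentials pass to the algebra generated after extending constants. -/
theorem span_baseChange {k K A : Type u} [Field k] [Field K] [Algebra k K] [CommRing A] [Algebra k A]
    {n : ℕ} (a : Fin n → A)
    (ha : Submodule.span A (Set.range fun i => KaehlerDifferential.D k A (a i)) = ⊤) :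
    Submodule.span (K ⊗[k] A)
      (Set.range fun i => KaehlerDifferential.D K (K ⊗[k] A) ((1 : K) ⊗ₜ[k] a i)) = ⊤ := by
  letI : Algebra A (K ⊗[k] A) := Algebra.TensorProduct.rightAlgebra
  haveI : IsScalarTower k A (K ⊗[k] A) := IsScalarTower.of_algebraMap_eq fun r => by
    show algebraMap k (K ⊗[k] A) r = (1 : K) ⊗ₜ[k] algebraMap k A r
    exact (Algebra.TensorProduct.includeRight.commutes r).symm
  haveI : SMulCommClass K A (K ⊗[k] A) := ⟨fun c x t => by
    simp only [Algebra.smul_def]; ring⟩
  set B := K ⊗[k] A
  let S := Submodule.span B (Set.range fun i => KaehlerDifferential.D K B ((1 : K) ⊗ₜ[k] a i))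
  let g : Ω[A⁄k] →ₗ[A] Ω[B⁄K] := KaehlerDifferential.map k K A B
  have hg : ∀ w : Ω[A⁄k], g w ∈ S := by
    intro w
    have hw : w ∈ Submodule.span A (Set.range fun i => KaehlerDifferential.D k A (a i)) :=
      ha ▸ Submodule.mem_top
    induction hw using Submodule.span_induction with
    | mem w hw =>
      obtain ⟨i, rfl⟩ := hw
      rw [KaehlerDifferential.map_D]
      exact Submodule.subset_span ⟨i, rfl⟩
    | zero => simp
    | add a b _ _ ha hb => rw [map_add]; exact S.add_mem ha hb
    | smul r a _ ha =>
      rw [map_smul, ← algebraMap_smul B r (g a)]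
      exact S.smul_mem _ ha
  have hS : ∀ t : B, KaehlerDifferential.D K B t ∈ S := by
    intro t
    induction t using TensorProduct.induction_on with
    | zero => simp
    | add x y hx hy => rw [map_add]; exact S.add_mem hx hy
    | tmul c x =>
      have : (c ⊗ₜ[k] x : B) = c • algebraMap A B x := by
        show c ⊗ₜ[k] x = c • ((1 : K) ⊗ₜ[k] x)
        rw [TensorProduct.smul_tmul', smul_eq_mul, mul_one]
      rw [this, Derivation.map_smul, ← algebraMap_smul B c, ← KaehlerDifferential.map_D k K A B x]
      exact S.smul_mem _ (hg _)
  rw [eq_top_iff, ← KaehlerDifferential.span_range_derivation, Submodule.span_le]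
  rintro _ ⟨t, rfl⟩
  exact hS t

/-- Spanning sets of differentials localize. -/
theorem span_localization {K B : Type u} [Field K] [CommRing B] [Algebra K B] (m : Ideal B) [m.IsPrime]
    {n : ℕ} (a : Fin n → B)
    (ha : Submodule.span B (Set.range fun i => KaehlerDifferential.D K B (a i)) = ⊤) :
    Submodule.span (Localization.AtPrime m) (Set.range fun i =>
      KaehlerDifferential.D K (Localization.AtPrime m) (algebraMap B _ (a i))) = ⊤ := by
  haveI : Algebra.FormallyEtale B (Localization.AtPrime m) := .of_isLocalization m.primeCompl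
  let e := KaehlerDifferential.tensorKaehlerEquivOfFormallyEtale K B (Localization.AtPrime m)
  set P := Localization.AtPrime m
  let S := Submodule.span P (Set.range fun i => KaehlerDifferential.D K P (algebraMap B P (a i)))
  rw [eq_top_iff]
  rintro w -
  obtain ⟨t, rfl⟩ := e.surjective w
  induction t using TensorProduct.induction_on with
  | zero => simp
  | add x y hx hy => rw [map_add]; exact S.add_mem hx hy
  | tmul c v =>
    rw [KaehlerDifferential.tensorKaehlerEquivOfFormallyEtale_apply, KaehlerDifferential.mapBaseChange_tmul]
    refine S.smul_mem _ ?_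
    have hv : v ∈ Submodule.span B (Set.range fun i => KaehlerDifferential.D K B (a i)) :=
      ha ▸ Submodule.mem_top
    induction hv using Submodule.span_induction with
    | mem v hv =>
      obtain ⟨i, rfl⟩ := hv
      rw [KaehlerDifferential.map_D]
      exact Submodule.subset_span ⟨i, rfl⟩
    | zero => simp
    | add a b _ _ ha hb => rw [map_add]; exact S.add_mem ha hb
    | smul r a _ ha =>
      rw [map_smul, ← algebraMap_smul P r]
      exact S.smul_mem _ ha

theorem regular_and_independent {K B : Type u} [Field K] [IsAlgClosed K] [CommRing B] [Algebra K B]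
    [Algebra.FiniteType K B] {n : ℕ} (a : Fin n → B)
    (ha : Submodule.span B (Set.range fun i => KaehlerDifferential.D K B (a i)) = ⊤)
    (m : Ideal B) [m.IsMaximal] (hdim : (n : WithBot ℕ∞) ≤ ringKrullDim (Localization.AtPrime m)) :
    IsRegularLocalRing (Localization.AtPrime m) ∧
      ∀ f : Fin n → B, ∑ i, f i • KaehlerDifferential.D K B (a i) = 0 →
        ∀ i, algebraMap B (Localization.AtPrime m) (f i) = 0 := by
  have : IsNoetherianRing B := Algebra.FiniteType.isNoetherianRing K B
  set P := Localization.AtPrime m
  have hspan := span_localization m a ha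
  have hle := spanFinrank_le (HopfSmDim.hasResidue (K := K) m) (fun i => algebraMap B P (a i)) hspan
  have h1 := ringKrullDim_le_spanFinrank_maximalIdeal P
  have hn : (maximalIdeal P).spanFinrank = n := by
    refine le_antisymm hle ?_
    exact_mod_cast hdim.trans h1
  have hreg : IsRegularLocalRing P := by
    rw [isRegularLocalRing_iff, hn]
    exact le_antisymm hdim (by simpa [hn] using h1)
  refine ⟨hreg, fun f hf i => ?_⟩
  have hsm : Algebra.FormallySmooth K P := (CotT.regular_iff_smoothAt (k := K) m).1 hreg
  have : Module.Free P (Ω[P⁄K]) := Module.free_of_flat_of_isLocalRing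
  have hrk : Module.finrank P (Ω[P⁄K]) = n := by
    rw [← HopfSmDim.finrank_cotangentSpace (HopfSmDim.hasResidue (K := K) m),
      ← spanFinrank_maximalIdeal_eq_finrank_cotangentSpace, hn]
  have hind := linearIndependent_of_top_le_span_of_card_eq_finrank
    (b := fun i => KaehlerDifferential.D K P (algebraMap B P (a i))) hspan.ge (by rw [Fintype.card_fin]; exact hrk.symm)
  have h0 : ∑ j, algebraMap B P (f j) • KaehlerDifferential.D K P (algebraMap B P (a j)) = 0 := by
    have := congrArg (KaehlerDifferential.map K K B P) hf
    simpa [algebraMap_smul] using this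
  exact (Fintype.linearIndependent_iff.1 hind) _ h0 i

/-- Smoothness and independence of differentials from the dimension of all closed points. -/
theorem smooth_and_independent {k A : Type u} [Field k] [CommRing A] [Algebra k A]
    [Algebra.FiniteType k A] {n : ℕ} (a : Fin n → A)
    (hdim : ∀ (m : Ideal A) [m.IsMaximal], (n : WithBot ℕ∞) ≤ ringKrullDim (Localization.AtPrime m))
    (ha : Submodule.span A (Set.range fun i => KaehlerDifferential.D k A (a i)) = ⊤) :
    Algebra.FormallySmooth k A ∧
      ∀ f : Fin n → A, ∑ i, f i • KaehlerDifferential.D k A (a i) = 0 → ∀ i, f i = 0 := by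
  let K := AlgebraicClosure k
  let B := K ⊗[k] A
  letI : Algebra A B := Algebra.TensorProduct.rightAlgebra
  haveI : IsScalarTower k A B := IsScalarTower.of_algebraMap_eq fun r => by
    show algebraMap k B r = (1 : K) ⊗ₜ[k] algebraMap k A r
    exact (Algebra.TensorProduct.includeRight.commutes r).symm
  haveI : SMulCommClass K A B := ⟨fun c x t => by simp only [Algebra.smul_def]; ring⟩
  let e : A ⊗[k] K ≃ₐ[A] B :=
    AlgEquiv.ofRingEquiv (f := (Algebra.TensorProduct.comm k A K).toRingEquiv) fun x => by
      show Algebra.TensorProduct.comm k A K (x ⊗ₜ[k] (1 : K)) = _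
      rw [Algebra.TensorProduct.comm_tmul]
      rfl
  haveI : Module.FaithfullyFlat A B := Module.FaithfullyFlat.of_linearEquiv _ _ e.symm.toLinearEquiv
  haveI : Algebra.IsIntegral A B := ⟨fun b => by
    obtain ⟨t, rfl⟩ := e.surjective b
    exact (Algebra.IsIntegral.isIntegral t).map e.toAlgHom⟩
  haveI : IsNoetherianRing B := Algebra.FiniteType.isNoetherianRing K B
  haveI : IsNoetherianRing A := Algebra.FiniteType.isNoetherianRing k A
  have hspan : Submodule.span B (Set.range fun i =>
      KaehlerDifferential.D K B ((1 : K) ⊗ₜ[k] a i)) = ⊤ := span_baseChange a ha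
  have hdimB : ∀ (m : Ideal B) [m.IsMaximal],
      (n : WithBot ℕ∞) ≤ ringKrullDim (Localization.AtPrime m) := by
    intro m _
    let m₀ := m.comap (algebraMap A B)
    haveI : m₀.IsMaximal := Ideal.isMaximal_comap_of_isIntegral_of_isMaximal m
    haveI : m.LiesOver m₀ := ⟨rfl⟩
    have h := hdim m₀
    rw [IsLocalization.AtPrime.ringKrullDim_eq_height m₀] at h
    rw [IsLocalization.AtPrime.ringKrullDim_eq_height m]
    refine h.trans (WithBot.coe_le_coe.2 ?_)
    rw [Ideal.height_eq_height_add_of_liesOver_of_hasGoingDown m₀ m]
    exact le_self_add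
  have hB : Algebra.FormallySmooth K B := CotT.formallySmooth_of_maximal fun m _ =>
    (regular_and_independent _ hspan m (hdimB m)).1
  constructor
  · haveI : Algebra.FinitePresentation k A := Algebra.FinitePresentation.of_finiteType.1 ‹_›
    rw [← Algebra.smoothLocus_eq_univ_iff, Set.eq_univ_iff_forall]
    intro p
    obtain ⟨Q, rfl⟩ := PrimeSpectrum.comap_surjective_of_faithfullyFlat (A := A) (B := B) p
    refine SmDesc.isSmoothAt_of_tensor (R := k) (S := A) (T := K) Q ?_
    haveI : Algebra.FinitePresentation K B := Algebra.FinitePresentation.of_finiteType.1 inferInstance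
    rw [Algebra.smoothLocus_eq_univ_iff.2 hB]
    trivial
  · intro f hf i
    refine (FaithfulSMul.algebraMap_injective A B) ?_
    rw [map_zero]
    refine MaximalSpectrum.toPiLocalization_injective B ?_
    rw [map_zero]
    funext m
    haveI := m.isMaximal
    refine (regular_and_independent _ hspan m.asIdeal (hdimB m.asIdeal)).2
      (fun j => algebraMap A B (f j)) ?_ i
    have := congrArg (KaehlerDifferential.map k K A B) hf
    simp only [map_sum, map_smul, map_zero, KaehlerDifferential.map_D] at this
    simp only [algebraMap_smul]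
    exact this

end Groth.Agent.EtaleCrit
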