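import Groth.Agent.EtaleCrit.Basic
import Groth.Agent.S0558
import Groth.Agent.DimFormula.Field
import Groth.Agent.CartierEq.Basic
import Groth.Agent.FSField.Basic
import Groth.Agent.GeomRedSpread.Core

/-!
# Smoothness from projective differentials and generic geometric reducedness
-/

set_option autoImplicit false
set_option linter.style.haveILetI false
set_option backward.isDefEq.respectTransparency false

universe u

open TensorProduct IsLocalRing

noncomputable section

namespace Groth.Agent.EtaleCrit

variable {K B : Type u} [Field K] [IsAlgClosed K] [CommRing B] [Algebra K B] [Algebra.FiniteType K B]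

/-- At a reduced generic point the rank of the differentials is the dimension of the component. -/
theorem trdeg_quotient_eq (Q : Ideal B) [Q.IsPrime] (hQ : Q ∈ minimalPrimes B)
    [_root_.IsReduced (Localization.AtPrime Q)] :
    Cardinal.toNat (Algebra.trdeg K (B ⧸ Q)) =
      Module.rankAtStalk (Ω[B⁄K]) ⟨Q, ‹_›⟩ := by
  classical
  haveI : Algebra.FormallyEtale B (Localization.AtPrime Q) := .of_isLocalization Q.primeCompl
  let F := Localization.AtPrime Q
  rw [Module.rankAtStalk_eq_finrank_tensorProduct,
    show Module.finrank (Localization.AtPrime Q) (Localization.AtPrime Q ⊗[B] Ω[B⁄K]) =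
        Module.finrank F (Ω[F⁄K]) from
      (KaehlerDifferential.tensorKaehlerEquivOfFormallyEtale K B F).finrank_eq]
  haveI : Ring.KrullDimLE 0 F := by
    rw [Ring.krullDimLE_iff, IsLocalization.AtPrime.ringKrullDim_eq_height Q]
    simpa using le_of_eq (Ideal.height_eq_zero_iff.mpr hQ)
  have hF : IsField F := Ring.KrullDimLE.isField_of_isReduced
  have hmax : maximalIdeal F = ⊥ := IsLocalRing.isField_iff_maximalIdeal_eq.mp hF
  letI : Field F := hF.toField
  haveI : Algebra.FormallySmooth K F := FSField.formallySmooth_of_perfectField K F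
  haveI : Algebra.EssFiniteType B F := Algebra.EssFiniteType.of_isLocalization F Q.primeCompl
  haveI : Algebra.EssFiniteType K F := Algebra.EssFiniteType.comp K B F
  obtain ⟨-, -, hc⟩ := CartierEq.cartier_equality K F
  have h0 : Module.finrank F (Algebra.H1Cotangent K F) = 0 := Module.finrank_zero_of_subsingleton
  rw [h0, add_zero] at hc
  rw [hc]
  congr 1
  let g : (B ⧸ Q) →+* F := Ideal.Quotient.lift Q (algebraMap B F) fun b hb => by
    have : algebraMap B F b ∈ maximalIdeal F := (IsLocalization.AtPrime.to_map_mem_maximal_iff F Q b).mpr hb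
    rwa [hmax, Ideal.mem_bot] at this
  letI : Algebra (B ⧸ Q) F := g.toAlgebra
  haveI : IsScalarTower K (B ⧸ Q) F := IsScalarTower.of_algebraMap_eq fun x => by
    show algebraMap K F x = algebraMap B F (algebraMap K B x)
    exact IsScalarTower.algebraMap_apply K B F x
  have hginj : Function.Injective g := by
    refine (injective_iff_map_eq_zero g).mpr fun z hz => ?_
    obtain ⟨b, rfl⟩ := Ideal.Quotient.mk_surjective z
    refine Ideal.Quotient.eq_zero_iff_mem.mpr ((IsLocalization.AtPrime.to_map_mem_maximal_iff F Q b).mp ?_)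
    rw [show algebraMap B F b = 0 from hz]
    exact Ideal.zero_mem _
  haveI : FaithfulSMul (B ⧸ Q) F := (faithfulSMul_iff_algebraMap_injective _ _).mpr hginj
  haveI : Algebra.IsAlgebraic (B ⧸ Q) F := ⟨fun x => by
    obtain ⟨a, s, rfl⟩ := IsLocalization.exists_mk'_eq Q.primeCompl x
    have hs : Ideal.Quotient.mk Q (s : B) ≠ 0 := fun h => s.2 (Ideal.Quotient.eq_zero_iff_mem.mp h)
    refine ⟨Polynomial.C (Ideal.Quotient.mk Q (s : B)) * Polynomial.X -
      Polynomial.C (Ideal.Quotient.mk Q a), fun h => hs ?_, ?_⟩
    · have := congrArg (fun p => Polynomial.coeff p 1) h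
      simpa using this
    · simp only [map_sub, map_mul, Polynomial.aeval_C, Polynomial.aeval_X]
      show algebraMap B F s * IsLocalization.mk' F a s - algebraMap B F a = 0
      rw [IsLocalization.mk'_spec', sub_self]⟩
  have := trdeg_add_eq K (B ⧸ Q) (A := F)
  rwa [trdeg_eq_zero (R := B ⧸ Q) (A := F), add_zero] at this

/-- With projective differentials, generic reducedness gives regularity. -/
theorem regular_of_generic [Module.Projective B (Ω[B⁄K])]
    (hgen : ∀ (Q : Ideal B) [Q.IsPrime], Q ∈ minimalPrimes B → _root_.IsReduced (Localization.AtPrime Q))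
    (m : Ideal B) [m.IsMaximal] : IsRegularLocalRing (Localization.AtPrime m) := by
  classical
  haveI : IsNoetherianRing B := Algebra.FiniteType.isNoetherianRing K B
  obtain ⟨Q, hQ, hQm⟩ := Ideal.exists_minimalPrimes_le (J := m) (bot_le : (⊥ : Ideal B) ≤ m)
  haveI : Q.IsPrime := hQ.1.1
  haveI := hgen Q hQ
  let P := Localization.AtPrime m
  haveI : Algebra.FormallyEtale B P := .of_isLocalization m.primeCompl
  let e := KaehlerDifferential.tensorKaehlerEquivOfFormallyEtale K B P
  haveI : Module.Projective P (Ω[P⁄K]) := .of_equiv e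
  haveI : Module.Free P (Ω[P⁄K]) := Module.free_of_flat_of_isLocalRing
  have hrk : Module.finrank P (Ω[P⁄K]) = Cardinal.toNat (Algebra.trdeg K (B ⧸ Q)) := by
    rw [trdeg_quotient_eq Q hQ, Module.rankAtStalk_eq_of_le_of_finite_of_flat' _ hQm,
      Module.rankAtStalk_eq_finrank_tensorProduct]
    exact e.finrank_eq.symm
  have hn : (maximalIdeal P).spanFinrank = Cardinal.toNat (Algebra.trdeg K (B ⧸ Q)) := by
    rw [spanFinrank_maximalIdeal_eq_finrank_cotangentSpace,
      HopfSmDim.finrank_cotangentSpace (HopfSmDim.hasResidue (K := K) m), hrk]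
  have hker : RingHom.ker (Ideal.Quotient.mk Q) ≤ m := by rwa [Ideal.mk_ker]
  haveI hm' : (m.map (Ideal.Quotient.mk Q)).IsMaximal :=
    (Ideal.map_eq_top_or_isMaximal_of_surjective _ Ideal.Quotient.mk_surjective ‹m.IsMaximal›).resolve_left
      fun h => ‹m.IsMaximal›.ne_top (by
        rw [← Ideal.comap_map_of_surjective' (Ideal.Quotient.mk Q) Ideal.Quotient.mk_surjective m |>.trans
          (sup_eq_left.mpr hker), h, Ideal.comap_top])
  obtain ⟨h, t, s, hh, ht, hs, hsum⟩ := DimFormula.exists_height_add_trdeg K (m.map (Ideal.Quotient.mk Q))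
  have ht0 : Algebra.trdeg K ((B ⧸ Q) ⧸ m.map (Ideal.Quotient.mk Q)) = 0 := by
    letI := Ideal.Quotient.field (m.map (Ideal.Quotient.mk Q))
    haveI : Module.Finite K ((B ⧸ Q) ⧸ m.map (Ideal.Quotient.mk Q)) :=
      finite_of_finite_type_of_isJacobsonRing _ _
    haveI : Algebra.IsIntegral K ((B ⧸ Q) ⧸ m.map (Ideal.Quotient.mk Q)) := Algebra.IsIntegral.of_finite _ _
    haveI : Algebra.IsAlgebraic K ((B ⧸ Q) ⧸ m.map (Ideal.Quotient.mk Q)) := Algebra.IsIntegral.isAlgebraic
    exact trdeg_eq_zero
  have ht' : t = 0 := by exact_mod_cast ht.symm.trans ht0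
  have hle : (h : ℕ∞) ≤ m.height := by
    rw [← hh, (⟨m, inferInstance⟩ : PrimeSpectrum B).height_eq_orderHeight,
      (⟨m.map (Ideal.Quotient.mk Q), inferInstance⟩ : PrimeSpectrum (B ⧸ Q)).height_eq_orderHeight]
    refine (Order.height_le_height_apply_of_strictMono (PrimeSpectrum.comap (Ideal.Quotient.mk Q))
      ?_ ⟨m.map (Ideal.Quotient.mk Q), inferInstance⟩).trans (le_of_eq ?_)
    · intro x y hxy
      exact lt_of_le_of_ne (Ideal.comap_mono hxy.le) fun e =>
        hxy.ne (PrimeSpectrum.comap_injective_of_surjective _ Ideal.Quotient.mk_surjective e)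
    · congr 1
      exact PrimeSpectrum.ext ((Ideal.comap_map_of_surjective' (Ideal.Quotient.mk Q)
        Ideal.Quotient.mk_surjective m).trans (sup_eq_left.mpr hker))
  rw [isRegularLocalRing_iff, hn]
  refine le_antisymm ?_ (by simpa [hn] using ringKrullDim_le_spanFinrank_maximalIdeal P)
  rw [IsLocalization.AtPrime.ringKrullDim_eq_height m, hs, Cardinal.toNat_natCast]
  have : s = h := by omega
  subst this
  exact WithBot.coe_le_coe.mpr hle

theorem isGeometricallyReduced_of_smooth (k A : Type u) [Field k] [CommRing A] [Algebra k A]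
    [Algebra.FiniteType k A] [Algebra.FormallySmooth k A] : Algebra.IsGeometricallyReduced k A := by
  rw [Algebra.isGeometricallyReduced_field_iff]
  haveI : IsNoetherianRing (AlgebraicClosure k ⊗[k] A) :=
    Algebra.FiniteType.isNoetherianRing (AlgebraicClosure k) _
  refine isReduced_ofLocalizationMaximal _ fun m _ => ?_
  haveI := CotT.regular_of_formallySmooth (k := AlgebraicClosure k) m
  haveI := Groth.Agent.S0558.result (R := Localization.AtPrime m)
  infer_instance

theorem smooth_of_generic (k A : Type u) [Field k] [CommRing A] [Algebra k A] [Algebra.FiniteType k A]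
    [Module.Projective A (Ω[A⁄k])]
    (h : ∀ (p : Ideal A) [p.IsPrime], p ∈ minimalPrimes A →
      Algebra.IsGeometricallyReduced k (Localization.AtPrime p)) : Algebra.FormallySmooth k A := by
  let K := AlgebraicClosure k
  let B := K ⊗[k] A
  letI : Algebra A B := Algebra.TensorProduct.rightAlgebra
  haveI : IsScalarTower k A B := IsScalarTower.of_algebraMap_eq fun r => by
    show algebraMap k B r = (1 : K) ⊗ₜ[k] algebraMap k A r
    exact (Algebra.TensorProduct.includeRight.commutes r).symm
  let e : A ⊗[k] K ≃ₐ[A] B :=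
    AlgEquiv.ofRingEquiv (f := (Algebra.TensorProduct.comm k A K).toRingEquiv) fun x => by
      show Algebra.TensorProduct.comm k A K (x ⊗ₜ[k] (1 : K)) = _
      rw [Algebra.TensorProduct.comm_tmul]
      rfl
  haveI : Module.FaithfullyFlat A B := Module.FaithfullyFlat.of_linearEquiv _ _ e.symm.toLinearEquiv
  haveI : IsNoetherianRing B := Algebra.FiniteType.isNoetherianRing K B
  haveI : Algebra.IsPushout k K A B := inferInstance
  haveI : Module.Projective B (Ω[B⁄K]) :=
    .of_equiv (KaehlerDifferential.tensorKaehlerEquiv k K A B)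
  have hgen : ∀ (Q : Ideal B) [Q.IsPrime], Q ∈ minimalPrimes B →
      _root_.IsReduced (Localization.AtPrime Q) := by
    intro Q _ hQ
    let p := Q.comap (algebraMap A B)
    haveI : Q.LiesOver p := ⟨rfl⟩
    have hp : p ∈ minimalPrimes A := by
      haveI : IsNoetherianRing A := Algebra.FiniteType.isNoetherianRing k A
      rw [← Ideal.height_eq_zero_iff]
      refine nonpos_iff_eq_zero.mp ?_
      rw [← Ideal.height_eq_zero_iff.mpr hQ, Ideal.height_eq_height_add_of_liesOver_of_hasGoingDown p Q]
      exact le_self_add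
    haveI hgr := h p hp
    let L := Localization.AtPrime p
    haveI : _root_.IsReduced (K ⊗[k] L) := (Algebra.isGeometricallyReduced_field_iff k L).mp hgr
    let T := Localization.AtPrime Q
    let ψ : L →ₐ[k] T :=
      { toRingHom := IsLocalization.lift (M := p.primeCompl) (g := (algebraMap B T).comp (algebraMap A B))
          fun s => IsLocalization.map_units T (⟨algebraMap A B s, s.2⟩ : Q.primeCompl)
        commutes' := fun r => by
          rw [IsScalarTower.algebraMap_apply k A L]
          exact (IsLocalization.lift_eq _ _).trans (by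
            rw [RingHom.comp_apply, ← IsScalarTower.algebraMap_apply k A B,
              ← IsScalarTower.algebraMap_apply k B T]) }
    let Ψ : K ⊗[k] L →ₐ[K] T :=
      Algebra.TensorProduct.lift (Algebra.ofId K T) ψ (fun _ _ => Commute.all _ _)
    let ι : B →ₐ[K] K ⊗[k] L := Algebra.TensorProduct.map (AlgHom.id K K) (IsScalarTower.toAlgHom k A L)
    have hι : ∀ b, Ψ (ι b) = algebraMap B T b := by
      intro b
      induction b using TensorProduct.induction_on with
      | zero => simp
      | add x y hx hy => rw [map_add, map_add, hx, hy, map_add]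
      | tmul c a =>
        show algebraMap K T c * ψ (algebraMap A L a) = _
        rw [show ψ (algebraMap A L a) = algebraMap B T (algebraMap A B a) from IsLocalization.lift_eq _ _,
          IsScalarTower.algebraMap_apply K B T, ← map_mul]
        congr 1
        show (c ⊗ₜ[k] (1 : A)) * ((1 : K) ⊗ₜ[k] a) = c ⊗ₜ[k] a
        rw [Algebra.TensorProduct.tmul_mul_tmul, mul_one, one_mul]
    -- `ι` kills no more than the localization does
    have hsurjι : ∀ z : K ⊗[k] L, ∃ (b : B) (s : p.primeCompl), z * ι (algebraMap A B s) = ι b := by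
      intro z
      induction z using TensorProduct.induction_on with
      | zero => exact ⟨0, 1, by simp⟩
      | tmul c l =>
        obtain ⟨a, s, rfl⟩ := IsLocalization.exists_mk'_eq p.primeCompl l
        refine ⟨c ⊗ₜ[k] a, s, ?_⟩
        show c ⊗ₜ[k] IsLocalization.mk' L a s * ((1 : K) ⊗ₜ[k] algebraMap A L s) = c ⊗ₜ[k] algebraMap A L a
        rw [Algebra.TensorProduct.tmul_mul_tmul, mul_one, IsLocalization.mk'_spec]
      | add x y hx hy =>
        obtain ⟨b, s, hb⟩ := hx
        obtain ⟨b', s', hb'⟩ := hy
        refine ⟨b * algebraMap A B s' + b' * algebraMap A B s, s * s', ?_⟩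
        rw [map_add, map_mul, map_mul, ← hb, ← hb', Submonoid.coe_mul, map_mul, map_mul]
        ring
    refine ⟨fun x hx => ?_⟩
    obtain ⟨b, s, rfl⟩ := IsLocalization.exists_mk'_eq Q.primeCompl x
    rw [IsLocalization.mk'_eq_zero_iff]
    obtain ⟨r, hr⟩ := hx
    rw [← IsLocalization.mk'_pow, IsLocalization.mk'_eq_zero_iff] at hr
    obtain ⟨c, hc⟩ := hr
    have hz : (ι ((c : B) * b)) ^ r = 0 ∨ r = 0 := by
      rcases Nat.eq_zero_or_pos r with h | h
      · exact Or.inr h
      · left
        rw [← map_pow, mul_pow, ← Nat.sub_add_cancel h, pow_add (c : B), pow_one, Nat.sub_add_cancel h,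
          mul_assoc, hc, mul_zero, map_zero]
    rcases hz with hz | rfl
    · have h0 : ι ((c : B) * b) = 0 := (IsNilpotent.eq_zero ⟨r, hz⟩)
      have h1 : algebraMap B T ((c : B) * b) = 0 := by rw [← hι, h0, map_zero]
      obtain ⟨d, hd⟩ := (IsLocalization.map_eq_zero_iff Q.primeCompl T _).mp h1
      exact ⟨d * c, by rw [Submonoid.coe_mul, mul_assoc]; exact hd⟩
    · exact ⟨c, by simp only [pow_zero, mul_one] at hc; rw [hc, zero_mul]⟩
  have hB : Algebra.FormallySmooth K B :=
    CotT.formallySmooth_of_maximal (k := K) fun m _ => regular_of_generic (K := K) hgen m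
  haveI : Algebra.FinitePresentation k A := Algebra.FinitePresentation.of_finiteType.1 ‹_›
  rw [← Algebra.smoothLocus_eq_univ_iff, Set.eq_univ_iff_forall]
  intro p
  obtain ⟨Q, rfl⟩ := PrimeSpectrum.comap_surjective_of_faithfullyFlat (A := A) (B := B) p
  refine SmDesc.isSmoothAt_of_tensor (R := k) (S := A) (T := K) Q ?_
  haveI : Algebra.FinitePresentation K B := Algebra.FinitePresentation.of_finiteType.1 inferInstance
  rw [Algebra.smoothLocus_eq_univ_iff.2 hB]
  trivial

end Groth.Agent.EtaleCrit
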