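import Groth.Agent.EtaleCrit.AtPoint
import Mathlib

/-!
# Parameters and residue differentials at an etale point over affine space
-/

set_option autoImplicit false
set_option linter.style.haveILetI false
set_option backward.isDefEq.respectTransparency false

universe u

open TensorProduct IsLocalRing

noncomputable section

namespace Groth.Agent.EtaleCrit

/-- Differentials of a local ring are generated by parameters and lifts of residue differentials. -/
theorem span_of_residue {k L : Type u} [Field k] [CommRing L] [IsLocalRing L] [Algebra k L]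
    [Module.Finite L (Ω[L⁄k])] {n : ℕ} (a : Fin n → L) (S₀ S₁ : Set (Fin n))
    (hm : maximalIdeal L ≤ Ideal.span (a '' S₀)) (hS₀ : ∀ i ∈ S₀, a i ∈ maximalIdeal L)
    (hres : Submodule.span (ResidueField L)
      ((fun i => KaehlerDifferential.D k (ResidueField L) (residue L (a i))) '' S₁) = ⊤) :
    Submodule.span L (Set.range fun i => KaehlerDifferential.D k L (a i)) = ⊤ := by
  classical
  let φ := KaehlerDifferential.map k k L (ResidueField L)
  let S := Submodule.span L (Set.range fun i => KaehlerDifferential.D k L (a i))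
  let ψ : Ω[L⁄k] →ₗ[L] ResidueField L ⊗[L] Ω[L⁄k] :=
    (TensorProduct.mk L (ResidueField L) (Ω[L⁄k]) 1)
  have hψD : ∀ x ∈ maximalIdeal L, ∃ v ∈ S, ψ (KaehlerDifferential.D k L x) = ψ v := by
    intro x hx
    have hx' := hm hx
    induction hx' using Submodule.span_induction with
    | mem x hxs =>
      obtain ⟨i, -, rfl⟩ := hxs
      exact ⟨_, Submodule.subset_span ⟨i, rfl⟩, rfl⟩
    | zero => exact ⟨0, S.zero_mem, by simp⟩
    | add x y hxs hys hx' hy' =>
      have hle : Ideal.span (a '' S₀) ≤ maximalIdeal L :=
        Ideal.span_le.2 (by rintro _ ⟨i, hi, rfl⟩; exact hS₀ i hi)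
      obtain ⟨v, hv, e⟩ := hx' (hle hxs)
      obtain ⟨w, hw, f⟩ := hy' (hle hys)
      exact ⟨v + w, S.add_mem hv hw, by rw [map_add, map_add, map_add, e, f]⟩
    | smul c x hxs hx' =>
      have hle : Ideal.span (a '' S₀) ≤ maximalIdeal L :=
        Ideal.span_le.2 (by rintro _ ⟨i, hi, rfl⟩; exact hS₀ i hi)
      obtain ⟨v, hv, e⟩ := hx' (hle hxs)
      refine ⟨c • v, S.smul_mem _ hv, ?_⟩
      have h0 : ψ (x • KaehlerDifferential.D k L c) = 0 := by
        show (1 : ResidueField L) ⊗ₜ[L] (x • KaehlerDifferential.D k L c) = 0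
        rw [← smul_tmul, Algebra.smul_def, mul_one, ResidueField.algebraMap_eq,
          (residue_eq_zero_iff _).2 (hle hxs), zero_tmul]
      rw [smul_eq_mul, Derivation.leibniz, map_add, map_smul, h0, add_zero, e, map_smul]
  have key : ∀ w : Ω[L⁄k], ∃ v ∈ S, ψ w = ψ v := by
    intro w
    suffices h : ∀ z : Ω[ResidueField L⁄k], ∃ v ∈ S, φ v = z by
      obtain ⟨v, hv, hvz⟩ := h (φ w)
      have h0 : KaehlerDifferential.mapBaseChange k L (ResidueField L) (ψ (w - v)) = 0 := by
        show KaehlerDifferential.mapBaseChange k L (ResidueField L) ((1 : ResidueField L) ⊗ₜ[L] (w - v)) = 0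
        rw [KaehlerDifferential.mapBaseChange_tmul, one_smul]
        show φ (w - v) = 0
        rw [map_sub, hvz, sub_self]
      obtain ⟨x, hx⟩ := (KaehlerDifferential.exact_kerCotangentToTensor_mapBaseChange k L (ResidueField L)
        residue_surjective _).1 h0
      obtain ⟨⟨y, hy⟩, rfl⟩ := Ideal.toCotangent_surjective _ x
      rw [KaehlerDifferential.kerCotangentToTensor_toCotangent] at hx
      obtain ⟨v', hv', he⟩ := hψD y (by
        rwa [RingHom.mem_ker, ResidueField.algebraMap_eq, residue_eq_zero_iff] at hy)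
      refine ⟨v' + v, S.add_mem hv' hv, ?_⟩
      rw [map_add, ← he, show ψ (KaehlerDifferential.D k L y) = ψ (w - v) from hx, map_sub,
        sub_add_cancel]
    intro z
    have hz : z ∈ Submodule.span (ResidueField L)
        ((fun i => KaehlerDifferential.D k (ResidueField L) (residue L (a i))) '' S₁) := hres ▸ Submodule.mem_top
    induction hz using Submodule.span_induction with
    | mem z hz =>
      obtain ⟨i, -, rfl⟩ := hz
      refine ⟨_, Submodule.subset_span ⟨i, rfl⟩, ?_⟩
      show φ _ = _
      rw [KaehlerDifferential.map_D]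
      rfl
    | zero => exact ⟨0, S.zero_mem, map_zero _⟩
    | add x y _ _ hx hy =>
      obtain ⟨v, hv, rfl⟩ := hx
      obtain ⟨v', hv', rfl⟩ := hy
      exact ⟨v + v', S.add_mem hv hv', map_add _ _ _⟩
    | smul c x _ hx =>
      obtain ⟨v, hv, rfl⟩ := hx
      obtain ⟨c', rfl⟩ := residue_surjective c
      refine ⟨c' • v, S.smul_mem _ hv, ?_⟩
      rw [map_smul, ← algebraMap_smul (ResidueField L) c']
      rfl
  rw [eq_top_iff]
  refine Submodule.le_of_le_smul_of_le_jacobson_bot (Module.Finite.fg_top)
    (IsLocalRing.maximalIdeal_le_jacobson _) ?_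
  intro w _
  obtain ⟨v, hv, he⟩ := key w
  have h2 : w - v ∈ maximalIdeal L • (⊤ : Submodule L (Ω[L⁄k])) := by
    have h := (CotT.one_tmul_zero_iff (K := ResidueField L) residue_surjective (w - v)).1
      (show ψ (w - v) = 0 by rw [map_sub, he, sub_self])
    rwa [ResidueField.algebraMap_eq, ker_residue] at h
  exact Submodule.mem_sup.2 ⟨v, hv, w - v, h2, by abel⟩

theorem flat_of_formallyEtale {P A : Type u} [CommRing P] [CommRing A] [Algebra P A]
    [IsNoetherianRing P] [Algebra.FiniteType P A] (p : Ideal A) [p.IsPrime]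
    (h : Algebra.IsEtaleAt P p) : Module.Flat P (Localization.AtPrime p) := by
  haveI : Algebra.FinitePresentation P A := Algebra.FinitePresentation.of_finiteType.1 inferInstance
  haveI : Algebra.FormallyEtale P (Localization.AtPrime p) := h
  haveI : Algebra.IsSmoothAt P p := inferInstanceAs (Algebra.FormallySmooth P (Localization.AtPrime p))
  obtain ⟨g, hg', hsm⟩ := Algebra.IsSmoothAt.exists_notMem_smooth P p
  let C := Localization.Away g
  let L := Localization.AtPrime p
  haveI : Algebra.Smooth P C := hsm
  haveI : Module.Flat P C := Algebra.Smooth.flat P C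
  letI : Algebra C L := IsLocalization.localizationAlgebraOfSubmonoidLe C L (Submonoid.powers g)
    p.primeCompl (Submonoid.powers_le.2 hg')
  haveI : IsScalarTower A C L := IsLocalization.localization_isScalarTower_of_submonoid_le C L
    (Submonoid.powers g) p.primeCompl (Submonoid.powers_le.2 hg')
  haveI : IsLocalization (p.primeCompl.map (algebraMap A C)) L :=
    IsLocalization.isLocalization_of_submonoid_le C L (Submonoid.powers g) p.primeCompl
      (Submonoid.powers_le.2 hg')
  haveI : IsScalarTower P C L := IsScalarTower.of_algebraMap_eq fun x => by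
    rw [IsScalarTower.algebraMap_apply P A L, IsScalarTower.algebraMap_apply A C L,
      ← IsScalarTower.algebraMap_apply P A C]
  haveI : Module.Flat C L := IsLocalization.flat L (p.primeCompl.map (algebraMap A C))
  exact Module.Flat.trans P C L

set_option maxHeartbeats 1600000 in
/-- At an etale point of height `r` whose first `r` coordinates vanish, they generate the maximal ideal. -/
theorem maximalIdeal_eq_of_etale {k A : Type u} [Field k] [CommRing A] [Algebra k A]
    [Algebra.FiniteType k A] {n r : ℕ} [Algebra (MvPolynomial (Fin n) k) A]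
    [IsScalarTower k (MvPolynomial (Fin n) k) A] (p : Ideal A) [p.IsPrime]
    (hr : ringKrullDim (Localization.AtPrime p) = (r : WithBot ℕ∞))
    (hg : ∀ i : Fin n, (i : ℕ) < r → algebraMap (MvPolynomial (Fin n) k) A (MvPolynomial.X i) ∈ p)
    (h : Algebra.IsEtaleAt (MvPolynomial (Fin n) k) p) :
    Ideal.span ((fun i : Fin n => algebraMap A (Localization.AtPrime p)
        (algebraMap (MvPolynomial (Fin n) k) A (MvPolynomial.X i))) '' {i : Fin n | (i : ℕ) < r}) =
      maximalIdeal (Localization.AtPrime p) := by
  classical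
  let P := MvPolynomial (Fin n) k
  haveI : IsNoetherianRing A := Algebra.FiniteType.isNoetherianRing k A
  haveI : Algebra.FiniteType P A := Algebra.FiniteType.of_restrictScalars_finiteType k P A
  let M := p.comap (algebraMap P A)
  haveI : p.LiesOver M := ⟨rfl⟩
  let L := Localization.AtPrime p
  haveI : Algebra.FormallyEtale P L := h
  haveI : Algebra.IsUnramifiedAt P p := inferInstanceAs (Algebra.FormallyUnramified P L)
  letI : Algebra (Localization.AtPrime M) L := Localization.AtPrime.algebraOfLiesOver M p
  have hmap : M.map (algebraMap P L) = maximalIdeal L :=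
    ((Algebra.isUnramifiedAt_iff_map_eq P M p).mp inferInstance).2
  haveI : Module.Flat P L := flat_of_formallyEtale p h
  let J : Ideal P := Ideal.span (MvPolynomial.X '' {i : Fin n | (i : ℕ) < r})
  suffices hJ : J = M by
    rw [← hmap, ← hJ, Ideal.map_span]
    congr 1
    rw [← Set.image_comp]
    refine Set.image_congr fun i _ => ?_
    exact (IsScalarTower.algebraMap_apply P A L _).symm
  have hJM : J ≤ M := Ideal.span_le.2 (by rintro _ ⟨i, hi, rfl⟩; exact hg i hi)
  have hmax : maximalIdeal L = p.map (algebraMap A L) :=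
    (Localization.AtPrime.map_eq_maximalIdeal).symm
  have hMh : M.height = r := by
    haveI : (maximalIdeal L).LiesOver M := ⟨by
      rw [Ideal.under, IsScalarTower.algebraMap_eq P A L, ← Ideal.comap_comap]
      exact (congrArg (Ideal.comap (algebraMap P A)) (IsLocalization.AtPrime.under_maximalIdeal L p)).symm⟩
    have e := Ideal.height_eq_height_add_of_liesOver_of_hasGoingDown M (maximalIdeal L)
    haveI : (maximalIdeal L).IsPrime := inferInstance
    have hker : RingHom.ker (Ideal.Quotient.mk (M.map (algebraMap P L))) ≤ maximalIdeal L := by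
      rw [Ideal.mk_ker, hmap]
    have h0 : ((maximalIdeal L).map (Ideal.Quotient.mk (M.map (algebraMap P L)))) = ⊥ := by
      rw [Ideal.map_eq_bot_iff_le_ker, Ideal.mk_ker, hmap]
    rw [h0] at e
    haveI : (⊥ : Ideal (L ⧸ M.map (algebraMap P L))).IsPrime :=
      h0 ▸ Ideal.map_isPrime_of_surjective Ideal.Quotient.mk_surjective hker
    haveI : Nontrivial (L ⧸ M.map (algebraMap P L)) := Ideal.Quotient.nontrivial_iff.mpr (by rw [hmap]; exact (maximalIdeal.isMaximal L).ne_top)
    rw [Ideal.height_bot, add_zero] at e
    rw [← e]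
    have := IsLocalRing.maximalIdeal_height_eq_ringKrullDim (R := L)
    rw [hr] at this
    exact_mod_cast this
  let T := {i : Fin n // ¬ (i : ℕ) < r}
  let φ : P →ₐ[k] MvPolynomial T k :=
    MvPolynomial.aeval fun i => if hi : (i : ℕ) < r then 0 else MvPolynomial.X ⟨i, hi⟩
  let ψ : MvPolynomial T k →ₐ[k] P := MvPolynomial.rename Subtype.val
  have hφX : ∀ i, φ (MvPolynomial.X i) = if hi : (i : ℕ) < r then 0 else MvPolynomial.X ⟨i, hi⟩ :=
    fun i => MvPolynomial.aeval_X _ i
  have hψX : ∀ i, ψ (MvPolynomial.X i) = MvPolynomial.X (Subtype.val i) :=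
    fun i => MvPolynomial.rename_X _ i
  have hφψ : ∀ f, φ (ψ f) = f := fun f => by
    have : φ.comp ψ = AlgHom.id k _ := MvPolynomial.algHom_ext fun i => by
      rw [AlgHom.comp_apply, hψX, hφX, dif_neg i.2]; rfl
    exact AlgHom.congr_fun this f
  have hψφ : ∀ f : P, f - ψ (φ f) ∈ J := by
    intro f
    induction f using MvPolynomial.induction_on with
    | C c =>
      rw [show φ (MvPolynomial.C c) = MvPolynomial.C c from φ.commutes c,
        show ψ (MvPolynomial.C c) = MvPolynomial.C c from ψ.commutes c, sub_self]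
      exact J.zero_mem
    | add f g hf hg =>
      rw [map_add, map_add, add_sub_add_comm]
      exact J.add_mem hf hg
    | mul_X f i hf =>
      rw [map_mul, map_mul]
      by_cases hi : (i : ℕ) < r
      · have : φ (MvPolynomial.X i) = 0 := by rw [hφX, dif_pos hi]
        rw [this, map_zero, mul_zero, sub_zero]
        exact J.mul_mem_left _ (Ideal.subset_span ⟨i, hi, rfl⟩)
      · have : ψ (φ (MvPolynomial.X i)) = MvPolynomial.X i := by rw [hφX, dif_neg hi, hψX]
        rw [this, ← sub_mul]
        exact J.mul_mem_right _ hf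
  have hkerJ : RingHom.ker φ.toRingHom = J := by
    refine le_antisymm (fun f hf => ?_) (Ideal.span_le.2 ?_)
    · have := hψφ f
      rwa [show φ f = 0 from hf, map_zero, sub_zero] at this
    · rintro _ ⟨i, hi, rfl⟩
      show φ (MvPolynomial.X i) = 0
      have hi' : (i : ℕ) < r := hi
      rw [hφX, dif_pos hi']
  haveI hJp : J.IsPrime := hkerJ ▸ RingHom.ker_isPrime φ.toRingHom
  let e : (P ⧸ J) ≃ₐ[k] MvPolynomial T k :=
    (Ideal.quotientEquivAlgOfEq k hkerJ.symm).trans
      (Ideal.quotientKerAlgEquivOfSurjective (f := φ) fun f => ⟨ψ f, hφψ f⟩)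
  obtain ⟨h', t, s, hh, ht, hs, hsum⟩ := DimFormula.exists_height_add_trdeg k J
  obtain ⟨hM', tM, sM, hhM, -, hsM, hsumM⟩ := DimFormula.exists_height_add_trdeg k M
  have hsn : s = n := by
    rw [MvPolynomial.trdeg_of_isDomain] at hs
    simpa using hs.symm
  have hsMn : sM = n := by
    rw [MvPolynomial.trdeg_of_isDomain] at hsM
    simpa using hsM.symm
  have hrn : r ≤ n := by
    have : r = hM' := by exact_mod_cast hMh.symm.trans hhM
    omega
  have hT : t = n - r := by
    rw [e.trdeg_eq, MvPolynomial.trdeg_of_isDomain] at ht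
    have hcard : Fintype.card T = n - r := by
      rw [Fintype.card_subtype_compl, Fintype.card_fin]
      congr 1
      rw [Fintype.card_subtype]
      have : (Finset.univ.filter fun i : Fin n => (i : ℕ) < r).card = r := by
        simpa [min_eq_right hrn] using Fin.card_filter_val_lt (m := r) (n := n)
      exact this
    have : (Fintype.card T : ℕ) = t := by simpa using ht
    omega
  refine eq_of_le_of_not_lt hJM fun hlt => ?_
  have h1 := Ideal.height_add_one_le_of_lt_of_isPrime hlt
  rw [hh, hMh] at h1
  have : h' + 1 ≤ r := by exact_mod_cast h1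
  omega

end Groth.Agent.EtaleCrit
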